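import Groth.Prelude.Def_KoszulSh
import Groth.Prelude.Def_CohB1

/-!
# Vanishing of a cosection at a point

`Van s x`: the cosection `s : E ⟶ O_X` takes only non-units as values at `x`.
-/

set_option autoImplicit false
universe u
open CategoryTheory CategoryTheory.Limits AlgebraicGeometry TopologicalSpace Opposite

namespace K389.Van

variable {X : Scheme.{u}} {E : X.Modules}

/-- The cosection `s` vanishes at `x`: no value of `s` on a local section is a unit at `x`. -/
def Van (s : E ⟶ Coh.structureModule X) (x : X) : Prop :=
  ∀ (W : X.Opens) (m : Γ(E, W)), x ∉ X.basicOpen (KoszSh.secForm s W m)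

theorem not_van_iff {s : E ⟶ Coh.structureModule X} {x : X} :
    ¬ Van s x ↔ ∃ (W : X.Opens) (m : Γ(E, W)), x ∈ X.basicOpen (KoszSh.secForm s W m) := by
  simp only [Van, not_forall, not_not]

/-- The vanishing locus of a cosection is closed. -/
theorem isClosed_setOf_van (s : E ⟶ Coh.structureModule X) : IsClosed {x | Van s x} := by
  rw [← isOpen_compl_iff]
  have : {x | Van s x}ᶜ = ⋃ (W : X.Opens) (m : Γ(E, W)), (X.basicOpen (KoszSh.secForm s W m) : Set X) := by
    ext x
    simp only [Set.mem_compl_iff, Set.mem_setOf_eq, not_van_iff, Set.mem_iUnion, SetLike.mem_coe]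
  rw [this]
  exact isOpen_iUnion fun W => isOpen_iUnion fun m => (X.basicOpen _).isOpen

/-- A cosection vanishes at `x` if and only if `f ≫ s` does, for all `f`; here the easy direction. -/
theorem Van.comp {s : E ⟶ Coh.structureModule X} {x : X} (h : Van s x) {E' : X.Modules} (f : E' ⟶ E) :
    Van (f ≫ s) x := fun W m => h W (f.app W m)

end K389.Van
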