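import Groth.Agent.Sga67.K0Basic
import Mathlib.Algebra.Homology.ShortComplex.Abelian
import Mathlib.Algebra.Homology.HomologicalComplex
import Mathlib.Algebra.Homology.QuasiIso
import Mathlib.CategoryTheory.Abelian.Exact

/-!
# The alternating sum of the classes of the terms of a bounded acyclic cochain complex
-/

set_option autoImplicit false
universe v u

open CategoryTheory CategoryTheory.Limits

namespace K389.AltSum

open Groth.Agent Groth.Agent.Sga67 Groth.Agent.Sga67.K0Basic

variable {A : Type u} [Category.{v} A] [Abelian A] (P : ObjectProperty A)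

/-- The cycles. -/
noncomputable abbrev Z (C : CochainComplex A ℕ) (i : ℕ) : A := kernel (C.d i (i + 1))

/-- The map to the next cycles. -/
noncomputable def toZ (C : CochainComplex A ℕ) (i : ℕ) : C.X i ⟶ Z C (i + 1) :=
  kernel.lift _ (C.d i (i + 1)) (C.d_comp_d _ _ _)

theorem toZ_ι (C : CochainComplex A ℕ) (i : ℕ) : toZ C i ≫ kernel.ι (C.d (i + 1) (i + 2)) = C.d i (i + 1) :=
  kernel.lift_ι _ _ _

theorem shortExact (C : CochainComplex A ℕ) (hC : C.Acyclic) (i : ℕ) :
    (ShortComplex.mk (kernel.ι (C.d i (i + 1))) (toZ C i) (by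
      rw [← cancel_mono (kernel.ι (C.d (i + 1) (i + 2))), Category.assoc, toZ_ι, kernel.condition, zero_comp])).ShortExact where
  exact := by
    have h := ShortComplex.exact_kernel (C.d i (i + 1))
    let φ : ShortComplex.mk (kernel.ι (C.d i (i + 1))) (toZ C i) (by
        rw [← cancel_mono (kernel.ι (C.d (i + 1) (i + 2))), Category.assoc, toZ_ι, kernel.condition, zero_comp]) ⟶
        ShortComplex.mk (kernel.ι (C.d i (i + 1))) (C.d i (i + 1)) (kernel.condition _) :=
      { τ₁ := 𝟙 _, τ₂ := 𝟙 _, τ₃ := kernel.ι (C.d (i + 1) (i + 2)), comm₁₂ := by simp,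
        comm₂₃ := by simp only [Category.id_comp]; exact (toZ_ι C i).symm }
    have h1 : Epi φ.τ₁ := inferInstanceAs (Epi (𝟙 _))
    have h2 : IsIso φ.τ₂ := inferInstanceAs (IsIso (𝟙 _))
    have h3 : Mono φ.τ₃ := inferInstanceAs (Mono (kernel.ι _))
    exact (ShortComplex.exact_iff_of_epi_of_isIso_of_mono φ).mpr h
  epi_g := by
    have h : (ShortComplex.mk (C.d i (i + 1)) (C.d (i + 1) (i + 2)) (C.d_comp_d _ _ _)).Exact := by
      have h1 := hC (i + 1)
      rw [HomologicalComplex.exactAt_iff' C i (i + 1) (i + 2) (by simp) (by simp)] at h1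
      exact h1
    exact (ShortComplex.exact_iff_epi_kernel_lift _).mp h

variable (hker : ∀ S : ShortComplex A, S.ShortExact → P S.X₂ → P S.X₃ → P S.X₁) (hzero : ∀ Z : A, IsZero Z → P Z)

include hker hzero in
theorem P_Z (C : CochainComplex A ℕ) (hC : C.Acyclic) (hP : ∀ i, P (C.X i)) (n : ℕ)
    (hn : ∀ i, n < i → IsZero (C.X i)) (i : ℕ) : P (Z C i) := by
  have key : ∀ m i, n < i + m → P (Z C i) := by
    intro m
    induction m with
    | zero =>
      intro i hi
      refine hzero _ ((hn i hi).of_mono (kernel.ι (C.d i (i + 1))))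
    | succ m ih =>
      intro i hi
      exact hker _ (shortExact C hC i) (hP i) (ih (i + 1) (by omega))
  exact key (n + 1) i (by omega)

include hker hzero in
theorem sum_eq_zero (C : CochainComplex A ℕ) (hC : C.Acyclic) (hP : ∀ i, P (C.X i)) (n : ℕ)
    (hn : ∀ i, n < i → IsZero (C.X i)) :
    ∑ i ∈ Finset.range (n + 1), (-1 : ℤ) ^ i • KZero.clSub P (C.X i) = 0 := by
  have hZ := P_Z P hker hzero C hC hP n hn
  have h1 : ∀ i, KZero.clSub P (C.X i) = KZero.clSub P (Z C i) + KZero.clSub P (Z C (i + 1)) := fun i =>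
    clSub_of_shortExact _ (shortExact C hC i) (hZ i) (hP i) (hZ (i + 1))
  have h2 : ∀ N, ∑ i ∈ Finset.range N, (-1 : ℤ) ^ i • KZero.clSub P (C.X i) =
      KZero.clSub P (Z C 0) - (-1 : ℤ) ^ N • KZero.clSub P (Z C N) := by
    intro N
    induction N with
    | zero => simp
    | succ N ih =>
      rw [Finset.sum_range_succ, ih, h1 N, pow_succ, mul_neg_one, neg_smul, smul_add]
      abel
  have h0 : IsZero (Z C 0) := by
    have h3 : Mono (C.d 0 1) := by
      have h4 := hC 0
      rw [HomologicalComplex.exactAt_iff' C 0 0 1 (by simp) (by simp)] at h4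
      exact (ShortComplex.exact_iff_mono _ (C.shape _ _ (by simp))).mp h4
    exact isZero_kernel_of_mono (C.d 0 1)
  have h5 : IsZero (Z C (n + 1)) := (hn _ (Nat.lt_succ_self n)).of_mono (kernel.ι (C.d (n + 1) (n + 1 + 1)))
  rw [h2, clSub_of_isZero h0, clSub_of_isZero h5, smul_zero, sub_zero]

end K389.AltSum
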