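import Groth.Agent.Sga67.LocBasis
import Groth.Agent.Krr.H495.Rank
import Groth.Agent.Krr.H490.LocBasisPull
import Groth.Agent.Fdesc.LocGenPullback

/-!
# Local bases of finite direct sums; common neighbourhoods
-/

set_option autoImplicit false
set_option backward.isDefEq.respectTransparency false
universe u
open CategoryTheory CategoryTheory.Limits AlgebraicGeometry TopologicalSpace Opposite

namespace K389.BiBasis

open Groth.Agent Groth.Agent.Sga67.Sec Groth.Agent.Sga67.LocBasis

attribute [local instance] Abelian.hasFiniteBiproducts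

variable {X : Scheme.{u}} {k : ℕ} (G : Fin k → X.Modules)

theorem appS_sum {M N : X.Modules} {ι : Type*} (s : Finset ι) (φ : ι → (M ⟶ N)) (U : X.Opens) (t : Sec M U) :
    appS (∑ i ∈ s, φ i) U t = ∑ i ∈ s, appS (φ i) U t := by
  classical
  induction s using Finset.induction_on with
  | empty => rw [Finset.sum_empty, Finset.sum_empty, appS_zero]
  | insert a s ha ih => rw [Finset.sum_insert ha, Finset.sum_insert ha, ← ih]; rfl

theorem appS_total {V : X.Opens} (s : Sec (⨁ G) V) :
    ∑ i, appS (biproduct.ι G i) V (appS (biproduct.π G i) V s) = s := by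
  have h := congrArg (fun φ : (⨁ G) ⟶ ⨁ G => appS φ V s) (biproduct.total (f := G))
  simp only [appS_sum, appS_comp] at h
  exact h

theorem appS_π_ι {V : X.Opens} (i i' : Fin k) (s : Sec (G i) V) :
    appS (biproduct.π G i') V (appS (biproduct.ι G i) V s) =
      if h : i = i' then appS (eqToHom (by rw [h])) V s else 0 := by
  rw [← appS_comp, biproduct.ι_π]
  split_ifs with h
  · rfl
  · exact appS_zero _ _

variable {n : Fin k → ℕ} {W : X.Opens} (b : ∀ i, Fin (n i) → Sec (G i) W)

/-- The local basis of the direct sum. -/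
noncomputable def sumB (p : Σ i, Fin (n i)) : Sec (⨁ G) W := appS (biproduct.ι G p.1) W (b p.1 p.2)

theorem comb_sumB {V : X.Opens} (h : V ≤ W) (a : (Σ i, Fin (n i)) → Γ(X, V)) :
    comb (sumB G b) h a = ∑ i, appS (biproduct.ι G i) V (comb (b i) h fun l => a ⟨i, l⟩) := by
  rw [comb_apply, Fintype.sum_sigma]
  refine Finset.sum_congr rfl fun i _ => ?_
  rw [comb_apply, map_sum]
  refine Finset.sum_congr rfl fun l _ => ?_
  rw [map_smul, sumB, ← appS_res]

theorem π_comb_sumB {V : X.Opens} (h : V ≤ W) (a : (Σ i, Fin (n i)) → Γ(X, V)) (i : Fin k) :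
    appS (biproduct.π G i) V (comb (sumB G b) h a) = comb (b i) h fun l => a ⟨i, l⟩ := by
  rw [comb_sumB, map_sum, Finset.sum_eq_single i]
  · rw [appS_π_ι, dif_pos rfl]
    rfl
  · intro i' _ hi
    rw [appS_π_ι, dif_neg hi]
  · exact fun h => absurd (Finset.mem_univ i) h

theorem isLocBasis_sumB (hb : ∀ i, IsLocBasis (b i)) : IsLocBasis (sumB G b) := by
  intro V h
  constructor
  · intro a a' haa
    funext p
    have h1 := congrArg (appS (biproduct.π G p.1) V) haa
    rw [π_comb_sumB, π_comb_sumB] at h1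
    exact congrFun ((hb p.1 V h).1 h1) p.2
  · intro s
    choose a ha using fun i => (hb i V h).2 (appS (biproduct.π G i) V s)
    refine ⟨fun p => a p.1 p.2, ?_⟩
    rw [comb_sumB, ← appS_total G s]
    exact Finset.sum_congr rfl fun i _ => by rw [← ha i]

/-- The intersection of finitely many neighbourhoods. -/
theorem exists_inter (x : X) (W₀ : X.Opens) (hx : x ∈ W₀) (U : Fin k → X.Opens) (hU : ∀ i, x ∈ U i) :
    ∃ (W : X.Opens) (_ : IsAffineOpen W) (_ : x ∈ W) (_ : W ≤ W₀), ∀ i, W ≤ U i := by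
  let U' : X.Opens := ⟨(W₀ : Set X) ∩ ⋂ i, (U i : Set X), W₀.isOpen.inter (isOpen_iInter_of_finite fun i => (U i).isOpen)⟩
  have hfin : x ∈ U' := ⟨hx, Set.mem_iInter.mpr hU⟩
  obtain ⟨W, hW, hxW, hWU⟩ := exists_isAffineOpen_mem_and_subset hfin
  exact ⟨W, hW, hxW, fun y hy => (hWU hy).1, fun i y hy => Set.mem_iInter.mp (hWU hy).2 i⟩

/-- Finitely many finite locally free modules have bases over a common affine neighbourhood. -/
theorem exists_common (hG : ∀ i, FlatMod.IsFinLocFree (G i)) (x : X) (W₀ : X.Opens) (hx : x ∈ W₀) :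
    ∃ (W : X.Opens) (_ : IsAffineOpen W) (_ : x ∈ W) (_ : W ≤ W₀) (n : Fin k → ℕ)
      (b : ∀ i, Fin (n i) → Sec (G i) W), ∀ i, IsLocBasis (b i) := by
  have h : ∀ i, ∃ (U : X.Opens) (n : ℕ) (b : Fin n → Sec (G i) U), x ∈ U ∧ IsLocBasis b := fun i => by
    obtain ⟨U, hx, b, hb⟩ := Krr.H495.Rank.exists_isLocBasis (hG i) x
    exact ⟨U, _, b, hx, hb⟩
  choose U n b hxU hb using h
  obtain ⟨W, hW, hxW, h0, h1⟩ := exists_inter x W₀ hx U hxU
  exact ⟨W, hW, hxW, h0, n, fun i l => res (G i) (h1 i) (b i l), fun i => (hb i).restrict (h1 i)⟩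

end K389.BiBasis
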