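import Groth.Agent.IntSh.K389.VGen
import Groth.Agent.IntSh.K389.BiBasis
import Groth.Agent.IntSh.K985.TrLin
import Groth.Agent.EGA2.K35.AffVB
import Groth.Agent.S8270
import Groth.Agent.S2768
import Groth.Agent.Pic13.H940.AddL
import Groth.Agent.PerfA.QCohEpi
import Groth.Prelude.Def_Dual3

/-!
# The universal sections over `V = Spec Sym (⨁ G'_i)`

`exists_univ`: a smooth affine `V ⟶ Y` with a section, and cosections of the pull-backs of the `M_i` to `X ×_Y V`
whose common zeros have residue fields of transcendence degree at most `N - k` over `X`.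
-/

set_option autoImplicit false
set_option backward.isDefEq.respectTransparency false
universe u
open CategoryTheory CategoryTheory.Limits AlgebraicGeometry TopologicalSpace Opposite

namespace K389.VMain

open Groth.Agent Groth.Agent.Fdesc.LocGen K36.QSpec K36.SymAlg K305.VBLoc K389.Van K389.VSec K389.VGen K389.BiBasis
open Groth.Agent.Sga67.LocBasis

attribute [local instance] Abelian.hasFiniteBiproducts

/-- The transpose condition: the coordinates of `m(μ)` have no common zero. -/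
def NonVan {X Y : Scheme.{u}} (π : X ⟶ Y) {M : X.Modules} {G' : Y.Modules}
    (m : M ⟶ (Scheme.Modules.pullback π).obj G') : Prop :=
  ∀ (W : Y.Opens) (n : ℕ) (b : Fin n → Γ(G', W)) (_ : IsLocBasis (M := G') b)
    (U : X.Opens) (hUW : U ≤ π ⁻¹ᵁ W) (μ : Γ(M, U)) (_ : IsGen μ) (f : Fin n → Γ(X, U))
    (_ : m.app U μ = ∑ j, f j • res ((Scheme.Modules.pullback π).obj G') hUW (pullSec π (b j)))
    (x : X) (_ : x ∈ U), ∃ j, x ∈ X.basicOpen (f j)

section Formula

variable {X Y X' : Scheme.{u}} {A : RelSpec.QCAlg Y} {π : X ⟶ Y} {g : X' ⟶ X} {π' : X' ⟶ A.spec}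
  (sq : g ≫ π = π' ≫ A.π) {E : Y.Modules} (j : E ⟶ A.toModule) {M : X.Modules}
  (m : M ⟶ (Scheme.Modules.pullback π).obj E)

/-- The values of the universal cosection in coordinates. -/
theorem secForm_sect {W : Y.Opens} {U : X.Opens} (hUW : U ≤ π ⁻¹ᵁ W) {n : ℕ} (b : Fin n → Γ(E, W))
    (μ : Γ(M, U)) (f : Fin n → Γ(X, U))
    (h : m.app U μ = ∑ l, f l • res ((Scheme.Modules.pullback π).obj E) hUW (pullSec π (b l))) :
    KoszSh.secForm (sect sq j m) (g ⁻¹ᵁ U) (pullSec g μ) =
      ∑ l, g.app U (f l) * ores (g.preimage_mono hUW) (rho sq W (jApp E A j W (b l))) := by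
  change (sect sq j m).app (g ⁻¹ᵁ U) (pullSec g μ) = _
  rw [sect_app, h]
  have h1 : ∀ l, (be sq j).app U (f l • res ((Scheme.Modules.pullback π).obj E) hUW (pullSec π (b l))) =
      (ofFun (g.app U (f l) * ores (g.preimage_mono hUW) (rho sq W (jApp E A j W (b l)))) :
        Γ(Coh.structureModule X', g ⁻¹ᵁ U)) := by
    intro l
    rw [Scheme.Modules.Hom.app_smul, app_res, be_app]
    rfl
  refine (map_sum ((be sq j).app U).hom _ _).trans ?_
  exact Finset.sum_congr rfl fun l _ => h1 l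

end Formula

section Main

variable {X Y : Scheme.{u}} [ConnectedSpace Y] (π : X ⟶ Y) {k : ℕ}
    (M : Fin k → X.Modules) (hM : ∀ i, PicF.IsInvertible (M i))
    (G' : Fin k → Y.Modules) (hG' : ∀ i, FlatMod.IsFinLocFree (G' i))
    (m : ∀ i, M i ⟶ (Scheme.Modules.pullback π).obj (G' i)) (hm : ∀ i, NonVan π (m i))

omit [ConnectedSpace Y] in
/-- The zero section. -/
theorem exists_section {E : Y.Modules} {A : RelSpec.QCAlg Y} {j : E ⟶ A.toModule} (hA : RelSpec.IsSymAlg E A j) :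
    ∃ e : Y ⟶ A.spec, e ≫ A.π = 𝟙 Y := by
  obtain ⟨ψ, -, -⟩ := hA (RelSpec.QCAlg.directImage (𝟙 Y)) 0
  exact ⟨K35.AffVB.toSpec (𝟙 Y) ψ, K35.AffVB.toSpec_π _ _⟩

include hM hG' hm in
theorem exists_univ :
    ∃ (V : Scheme.{u}) (pr : V ⟶ Y) (e : Y ⟶ V) (N : ℕ), e ≫ pr = 𝟙 Y ∧ Smooth pr ∧ IsAffineHom pr ∧
      (∀ v : V, FlatMor.fibreDimAt pr v = (N : WithBot ℕ∞)) ∧
      ∃ (X' : Scheme.{u}) (g : X' ⟶ X) (π' : X' ⟶ V) (_ : IsPullback g π' π pr)
        (s : ∀ i, (Scheme.Modules.pullback g).obj (M i) ⟶ Coh.structureModule X'),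
        ∀ z : X', (∀ i, Van (s i) z) → Dual3.resTrdeg g z + k ≤ N := by
  classical
  have hE : FlatMod.IsFinLocFree (⨁ G') := Pic13.H940.AddL.isFinLocFree_biproduct G' hG'
  have hEq : Coh.IsQCoh (⨁ G') := PerfA.QCohEpi.isQCoh_of_isFinLocFree hE
  obtain ⟨A, j, hA⟩ := S8270.result (⨁ G') hEq
  obtain ⟨N, hN⟩ := Krr.H495.Rank.exists_rank_of_connected hE
  obtain ⟨e, he⟩ := exists_section hA
  have hsm := smooth_π hEq hA hN
  refine ⟨A.spec, A.π, e, N, he, SmoothOfRelativeDimension.smooth N A.π, inferInstance,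
    fun v => S2768.result N A.π v, pullback π A.π, pullback.fst _ _, pullback.snd _ _,
    IsPullback.of_hasPullback _ _, fun i => sect pullback.condition j
      (m i ≫ (Scheme.Modules.pullback π).map (biproduct.ι G' i)), fun z hz => ?_⟩
  set g := pullback.fst π A.π with hg
  have H : IsPullback g (pullback.snd π A.π) π A.π := IsPullback.of_hasPullback _ _
  obtain ⟨W, hW, hyW, -, n, b, hb⟩ := exists_common G' hG' (π (g z)) ⊤ trivial
  have hgen : ∀ i, ∃ (U : X.Opens) (μ : Γ(M i, U)), g z ∈ U ∧ IsGen μ := fun i =>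
    (isInvertible_iff (M i)).mp (hM i) (g z)
  choose U₁ μ₁ hU₁ hμ₁ using hgen
  obtain ⟨U, hU, hxU, hUW, hUU⟩ := exists_inter (g z) (π ⁻¹ᵁ W) hyW U₁ hU₁
  let μ : ∀ i, Γ(M i, U) := fun i => res (M i) (hUU i) (μ₁ i)
  have hμ : ∀ i, IsGen (μ i) := fun i => (hμ₁ i).res (hUU i)
  have hco : ∀ i, ∃ f : Fin (n i) → Γ(X, U), (m i).app U (μ i) =
      ∑ l, f l • res ((Scheme.Modules.pullback π).obj (G' i)) hUW (pullSec π (b i l)) := by
    intro i
    have h1 := Krr.H490.LocBasisPull.isLocBasis_psec π (G' i) (V := U) hUW (hb i)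
    obtain ⟨f, hf⟩ := (h1 U le_rfl).2 ((m i).app U (μ i))
    refine ⟨f, hf.symm.trans ?_⟩
    rw [comb_apply]
    refine Finset.sum_congr rfl fun l _ => ?_
    rw [Sga67.Sec.res_self]
    rfl
  choose f hf using hco
  have hnv := fun i => hm i W (n i) (b i) (hb i) U hUW (μ i) (hμ i) (f i) (hf i) (g z) hxU
  -- the coordinates
  let bt : (p : Σ i, Fin (n i)) → Γ(⨁ G', W) := sumB G' b
  have hbt : IsLocBasis (M := ⨁ G') bt := isLocBasis_sumB G' b hb
  have hspan : Submodule.span Γ(Y, W) (Set.range bt) = ⊤ := by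
    rw [eq_top_iff]
    intro t _
    obtain ⟨c, hc⟩ := (hbt W le_rfl).2 t
    rw [← hc, comb_apply]
    refine Submodule.sum_mem _ fun p _ => Submodule.smul_mem _ _ (Submodule.subset_span ⟨p, ?_⟩)
    rw [Sga67.Sec.res_self]
  let a : ∀ i, Fin (n i) → (pullback π A.π).residueField z := fun i l =>
    (pullback π A.π).evaluation (g ⁻¹ᵁ (π ⁻¹ᵁ W)) z (hUW hxU) (rho H.w W (jApp (⨁ G') A j W (bt ⟨i, l⟩)))
  have hmt : ∀ i, (m i ≫ (Scheme.Modules.pullback π).map (biproduct.ι G' i)).app U (μ i) =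
      ∑ l, f i l • res ((Scheme.Modules.pullback π).obj (⨁ G')) hUW (pullSec π (bt ⟨i, l⟩)) := by
    intro i
    change ((Scheme.Modules.pullback π).map (biproduct.ι G' i)).app U ((m i).app U (μ i)) = _
    rw [hf i]
    refine (map_sum (((Scheme.Modules.pullback π).map (biproduct.ι G' i)).app U).hom _ _).trans ?_
    refine Finset.sum_congr rfl fun l _ => ?_
    refine (Scheme.Modules.Hom.app_smul _ _ _).trans (congrArg _ ?_)
    rw [app_res, pullback_map_pullSec]
    rfl
  have hrel : ∀ i, ∑ l, g.residueFieldMap z (X.evaluation U (g z) hxU (f i l)) * a i l = 0 := by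
    intro i
    have h1 := hz i (g ⁻¹ᵁ U) (pullSec g (μ i))
    rw [← Scheme.evaluation_eq_zero_iff_notMem_basicOpen _ z hxU, secForm_sect _ _ _ hUW (fun l => bt ⟨i, l⟩) _ _ (hmt i)] at h1
    rw [map_sum] at h1
    refine Eq.trans (Finset.sum_congr rfl fun l _ => ?_) h1
    rw [map_mul, eval_ores, Scheme.evaluation_naturality_apply]
  have hNn : N = ∑ i, n i := by
    have h1 := Krr.H495.Rank.rk_eq_of_isLocBasis hbt hyW
    rw [Krr.H495.Rank.rk_of_rank hN, Fintype.card_sigma] at h1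
    simpa using h1
  let alg := (g.residueFieldMap z).hom.toAlgebra
  have hgen : IntermediateField.adjoin (X.residueField (g z)) (⋃ i, Set.range (a i)) = ⊤ := by
    have h1 := adjoin_eq_top H hEq hA hW bt hspan hU hUW z hxU
      (IntermediateField.adjoin (X.residueField (g z)) (⋃ i, Set.range (a i))).toSubfield
      (fun c => IntermediateField.algebraMap_mem _ c)
      (fun p => IntermediateField.subset_adjoin _ _ (Set.mem_iUnion.mpr ⟨p.1, p.2, rfl⟩))
    rw [eq_top_iff]
    intro w _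
    have h2 : w ∈ (IntermediateField.adjoin (X.residueField (g z)) (⋃ i, Set.range (a i))).toSubfield := by
      rw [h1]; trivial
    exact h2
  have hfin := K985.TrLin.trdeg_add_le (K := X.residueField (g z)) a hgen
    (fun i l => X.evaluation U (g z) hxU (f i l))
    (fun i => by
      obtain ⟨l, hl⟩ := hnv i
      exact ⟨l, (Scheme.evaluation_ne_zero_iff_mem_basicOpen _ _ hxU _).mpr hl⟩) hrel
  rw [hNn]
  push_cast
  exact hfin

end Main

end K389.VMain
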