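import Groth.Agent.IntSh.K389.OverU
import Groth.Agent.IntSh.K389.VMain
import Groth.Agent.IntSh.K985.SuppTr
import Groth.Agent.AlgSp.K616.DimInv
import Groth.Agent.EGA2.K32.ProjVA

/-!
# The alternating product of determinants is trivial

`core`: `∏ det π_*(F ⊗ Λ^p(⨁ M_i))^{(-1)^p} = 1` in `Pic Y`.
-/

set_option autoImplicit false
set_option backward.isDefEq.respectTransparency false
set_option backward.isDefEq.respectTransparency.types false
universe u
open CategoryTheory CategoryTheory.Limits AlgebraicGeometry TopologicalSpace Opposite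

namespace K389.Core

open Groth.Agent K389.Van K389.CosPull K389.OverU K389.VMain K482.DetPic
open Groth.Agent.Grpsch.PicGrp

attribute [local instance] Abelian.hasFiniteBiproducts

/-- Extension of isomorphisms over codimension two in the fibres (node DEPTH). -/
def DepthStmt : Prop := ∀ {V Y : Scheme.{u}} [IsLocallyNoetherian Y] (pr : V ⟶ Y) [Smooth pr]
    (U : V.Opens) (_ : ∀ v : V, v ∉ U → ∃ n : ℕ, FlatMor.fibreDimAt pr v = ((n + 2 : ℕ) : WithBot ℕ∞) ∧
      Dual3.resTrdeg pr v ≤ n)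
    (D D' : V.Modules) (_ : PicF.IsInvertible D) (_ : PicF.IsInvertible D')
    (_ : Nonempty ((Scheme.Modules.pullback U.ι).obj D ≅ (Scheme.Modules.pullback U.ι).obj D')),
    Nonempty (D ≅ D')

variable {X Y : Scheme.{u}} [ConnectedSpace Y] [IsLocallyNoetherian Y] (π : X ⟶ Y) [IsProper π]
  [HasInjectiveResolutions X.Modules] {k : ℕ}
    (M : Fin k → X.Modules) (hM : ∀ i, PicF.IsInvertible (M i))
    (G' : Fin k → Y.Modules) (hG' : ∀ i, FlatMod.IsFinLocFree (G' i))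
    (m : ∀ i, M i ⟶ (Scheme.Modules.pullback π).obj (G' i)) (hm : ∀ i, NonVan π (m i))
    (hE : FlatMod.IsFinLocFreeOfRank k (⨁ M)) (L : ℕ → X.Modules)
    (hL : ∀ p, ExtPow.IsExtPow p (⨁ M) (L p)) (F : X.Modules) (hF : Coh.IsCoh F) (d : ℕ) (hk : d + 2 ≤ k)
    (hd : ∀ x ∈ CohB1.support F, Dual3.resTrdeg π x ≤ d)
    (hac : ∀ p j : ℕ, 0 < j → IsZero ((Coh.Rpush π j).obj (((DCoh.tensorBi (X := X)).obj F).obj (L p))))
    (a : ℕ → ℕ) (hA : ∀ p, FlatMod.IsFinLocFreeOfRank (a p)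
      ((Coh.push π).obj (((DCoh.tensorBi (X := X)).obj F).obj (L p))))

include hM hG' hm hE hL hF hk hd hac in
theorem core (hDep : DepthStmt.{u}) :
    ∏ p ∈ Finset.range (k + 1), (det (hA p)) ^ ((-1 : ℤ) ^ p) = 1 := by
  obtain ⟨V, pr, e, N, he, hsm, haff, hN, X', g, π', sq, s, hs⟩ := exists_univ π M hM G' hG' m hm
  let sE := sumS g M s
  have hpr : IsProper π' := MorphismProperty.of_isPullback sq inferInstance
  -- the bad locus
  let Z : Set X' := {z | g z ∈ CohB1.support F ∧ Van sE z}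
  have hZ : IsClosed Z := by
    refine IsClosed.inter ?_ (isClosed_setOf_van sE)
    exact (Ega3B.Devissage.isClosed_support hF).preimage g.continuous
  have hT : IsClosed (π' '' Z) := π'.isClosedMap _ hZ
  let U : V.Opens := ⟨(π' '' Z)ᶜ, hT.isOpen_compl⟩
  have hU : ∀ v : V, v ∉ U → ∃ n : ℕ, FlatMor.fibreDimAt pr v = ((n + 2 : ℕ) : WithBot ℕ∞) ∧
      Dual3.resTrdeg pr v ≤ n := by
    intro v hv
    obtain ⟨z, ⟨hz1, hz2⟩, rfl⟩ : v ∈ π' '' Z := not_not.mp hv
    have h1 := hs z (van_of_van_sumS g M s hz2)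
    have h2 := hd (g z) hz1
    have h3 := K616.DimInv.resTrdeg_comp g π z
    have h4 := K616.DimInv.resTrdeg_comp π' pr z
    rw [sq.w] at h3
    obtain ⟨r, hr⟩ := Cardinal.lt_aleph0.mp ((self_le_add_right _ _).trans_lt (h1.trans_lt Cardinal.natCast_lt_aleph0))
    obtain ⟨t, ht⟩ := Cardinal.lt_aleph0.mp (h2.trans_lt Cardinal.natCast_lt_aleph0)
    rw [hr] at h1 h3
    rw [ht] at h2 h3
    have h1' : r + k ≤ N := by exact_mod_cast h1
    have h2' : t ≤ d := by exact_mod_cast h2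
    refine ⟨N - 2, ?_, ?_⟩
    · rw [hN, Nat.sub_add_cancel (by omega)]
    · have h5 : Dual3.resTrdeg pr (π' z) ≤ ((t + r : ℕ) : Cardinal.{u}) := by
        push_cast
        rw [← h3, h4]
        exact self_le_add_right _ _
      refine h5.trans ?_
      exact_mod_cast (by omega : t + r ≤ N - 2)
  have hfl : Flat pr := inferInstance
  -- the product over `U`
  have sqU : IsPullback ((π' ⁻¹ᵁ U).ι ≫ g) (π' ∣_ U) π (U.ι ≫ pr) :=
    (isPullback_morphismRestrict π' U).flip.paste_horiz sq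
  have h1 := det_eq_one π (U.ι ≫ pr) ((π' ⁻¹ᵁ U).ι ≫ g) (π' ∣_ U) sqU hE L hL F hF (pullS₂ (π' ⁻¹ᵁ U).ι g sE)
    (fun z hz hvan => by
      refine not_van_pullS₂ (π' ⁻¹ᵁ U).ι g (s := sE) (x := z) (fun h => ?_) hvan
      exact z.2 ⟨_, ⟨hz, h⟩, rfl⟩) hac a hA
  have h2 : pull (U.ι ≫ pr) (∏ p ∈ Finset.range (k + 1), (det (hA p)) ^ ((-1 : ℤ) ^ p)) = 1 := by
    rw [map_prod, ← h1]
    exact Finset.prod_congr rfl fun p _ => map_zpow _ _ _
  rw [pull_comp] at h2
  set ξ := ∏ p ∈ Finset.range (k + 1), (det (hA p)) ^ ((-1 : ℤ) ^ p) with hξ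
  have h3 : pull pr ξ = 1 := by
    obtain ⟨D, hD, hD'⟩ := exists_mk (pull pr ξ)
    rw [hD', one_def, mk_eq_iff]
    rw [hD', one_def, pull_mk] at h2
    refine hDep pr U hU _ _ hD Fdesc.LocGen.isInvertible_structureModule ?_
    have h4 := (mk_eq_iff _ _).mp (h2.trans (map_one (pull U.ι)).symm)
    exact h4
  have h5 : pull e (pull pr ξ) = ξ := by
    rw [← pull_comp, he, pull_id]
  rw [← h5, h3, map_one]

end K389.Core
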