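import Groth.Agent.Fdesc.LocGenPullback
import Groth.Agent.IntSh.K389.Van

/-!
# Pull-back of a cosection
-/

set_option autoImplicit false
set_option backward.isDefEq.respectTransparency false
universe u
open CategoryTheory CategoryTheory.Limits AlgebraicGeometry TopologicalSpace Opposite

namespace K389.CosPull

open Groth.Agent Groth.Agent.Fdesc.LocGen K389.Van

variable {X Y Z : Scheme.{u}}

/-- The comorphism `O_Y ⟶ f_* O_X` as a map of modules. -/
noncomputable def cMod (f : X ⟶ Y) : Coh.structureModule Y ⟶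
    (Scheme.Modules.pushforward f).obj (Coh.structureModule X) :=
  mkHom (fun U => (ofFun (X := X) (U := f ⁻¹ᵁ U)).toAddMonoidHom.comp
      ((f.app U).hom.toAddMonoidHom.comp (ofFun (X := Y) (U := U)).symm.toAddMonoidHom))
    (fun U a m => (map_mul (f.app U).hom _ _))
    (fun U V h m => congr($(f.naturality (homOfLE h).op) m))

theorem cMod_app (f : X ⟶ Y) (U : Y.Opens) (a : Γ(Y, U)) :
    (cMod f).app U (ofFun a) = (ofFun (f.app U a) : Γ(Coh.structureModule X, f ⁻¹ᵁ U)) := rfl

/-- The pull-back of a cosection. -/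
noncomputable def pullS (f : X ⟶ Y) {E : Y.Modules} (s : E ⟶ Coh.structureModule Y) :
    (Scheme.Modules.pullback f).obj E ⟶ Coh.structureModule X :=
  ((Scheme.Modules.pullbackPushforwardAdjunction f).homEquiv _ _).symm (s ≫ cMod f)

theorem pullS_app (f : X ⟶ Y) {E : Y.Modules} (s : E ⟶ Coh.structureModule Y) (U : Y.Opens) (e : Γ(E, U)) :
    (pullS f s).app (f ⁻¹ᵁ U) (pullSec f e) = (cMod f).app U (s.app U e) := by
  rw [← homEquiv_app, pullS, Equiv.apply_symm_apply]
  rfl

theorem secForm_pullS (f : X ⟶ Y) {E : Y.Modules} (s : E ⟶ Coh.structureModule Y) (U : Y.Opens) (e : Γ(E, U)) :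
    KoszSh.secForm (pullS f s) (f ⁻¹ᵁ U) (pullSec f e) = f.app U (KoszSh.secForm s U e) :=
  pullS_app f s U e

theorem not_van_pullS (f : X ⟶ Y) {E : Y.Modules} {s : E ⟶ Coh.structureModule Y} {x : X}
    (h : ¬ Van s (f x)) : ¬ Van (pullS f s) x := by
  rw [not_van_iff] at h ⊢
  obtain ⟨W, m, hm⟩ := h
  refine ⟨f ⁻¹ᵁ W, pullSec f m, ?_⟩
  rw [secForm_pullS, ← Scheme.preimage_basicOpen]
  exact hm

theorem van_comp_iso {E E' : X.Modules} (e : E' ≅ E) (s : E ⟶ Coh.structureModule X) (x : X) :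
    Van (e.hom ≫ s) x ↔ Van s x :=
  ⟨fun h => by
    have := h.comp e.inv
    rwa [Iso.inv_hom_id_assoc] at this, fun h => h.comp e.hom⟩

/-- Pull-back of a cosection of `g^*E` along `f`. -/
noncomputable def pullS₂ (f : X ⟶ Y) (g : Y ⟶ Z) {E : Z.Modules}
    (s : (Scheme.Modules.pullback g).obj E ⟶ Coh.structureModule Y) :
    (Scheme.Modules.pullback (f ≫ g)).obj E ⟶ Coh.structureModule X :=
  (Scheme.Modules.pullbackComp f g).inv.app E ≫ pullS f s

theorem not_van_pullS₂ (f : X ⟶ Y) (g : Y ⟶ Z) {E : Z.Modules}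
    {s : (Scheme.Modules.pullback g).obj E ⟶ Coh.structureModule Y} {x : X}
    (h : ¬ Van s (f x)) : ¬ Van (pullS₂ f g s) x := by
  have h1 := not_van_pullS f h
  rwa [← van_comp_iso ((Scheme.Modules.pullbackComp f g).symm.app E)] at h1

attribute [local instance] Abelian.hasFiniteBiproducts

/-- A cosection of the pull-back of a finite direct sum from its components. -/
noncomputable def sumS (g : Y ⟶ Z) {k : ℕ} (M : Fin k → Z.Modules)
    (s : ∀ i, (Scheme.Modules.pullback g).obj (M i) ⟶ Coh.structureModule Y) :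
    (Scheme.Modules.pullback g).obj (⨁ M) ⟶ Coh.structureModule Y :=
  ((Scheme.Modules.pullbackPushforwardAdjunction g).homEquiv _ _).symm
    (biproduct.desc fun i => (Scheme.Modules.pullbackPushforwardAdjunction g).homEquiv _ _ (s i))

theorem map_ι_sumS (g : Y ⟶ Z) {k : ℕ} (M : Fin k → Z.Modules)
    (s : ∀ i, (Scheme.Modules.pullback g).obj (M i) ⟶ Coh.structureModule Y) (i : Fin k) :
    (Scheme.Modules.pullback g).map (biproduct.ι M i) ≫ sumS g M s = s i := by
  apply ((Scheme.Modules.pullbackPushforwardAdjunction g).homEquiv _ _).injective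
  rw [Adjunction.homEquiv_naturality_left, sumS, Equiv.apply_symm_apply, biproduct.ι_desc]

theorem van_of_van_sumS (g : Y ⟶ Z) {k : ℕ} (M : Fin k → Z.Modules)
    (s : ∀ i, (Scheme.Modules.pullback g).obj (M i) ⟶ Coh.structureModule Y) {y : Y}
    (h : Van (sumS g M s) y) (i : Fin k) : Van (s i) y := by
  rw [← map_ι_sumS g M s i]
  exact h.comp _

end K389.CosPull
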