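import Groth.Agent.IntSh.K389.BiBasis
import Groth.Agent.IntSh.K389.AltSum
import Groth.Agent.Sga67.SelfIntMain
import Groth.Agent.Pic13.H940.AddL
import Groth.Agent.VBCurve.K706.IsoCl
import Groth.Prelude.Def_KRR

/-!
# Rank and class of a finite direct sum; the alternating sum of an acyclic complex of finite locally free modules
-/

set_option autoImplicit false
set_option backward.isDefEq.respectTransparency false
universe u
open CategoryTheory CategoryTheory.Limits AlgebraicGeometry TopologicalSpace Opposite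

namespace K389.SumCl

open Groth.Agent Groth.Agent.Sga67.Sec Groth.Agent.Sga67.LocBasis K389.BiBasis Krr.H495.Rank
open Groth.Agent.Sga67.K0Basic

attribute [local instance] Abelian.hasFiniteBiproducts

variable {X : Scheme.{u}} {k : ℕ} (G : Fin k → X.Modules)

theorem rk_biproduct (hG : ∀ i, FlatMod.IsFinLocFree (G i)) (x : X) : rk (⨁ G) x = ∑ i, rk (G i) x := by
  obtain ⟨W, -, hx, -, n, b, hb⟩ := exists_common G hG x ⊤ trivial
  rw [rk_eq_of_isLocBasis (isLocBasis_sumB G b hb) hx, Fintype.card_sigma]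
  refine Finset.sum_congr rfl fun i _ => ?_
  rw [rk_eq_of_isLocBasis (hb i) hx]

theorem rank_sum_invertible (hG : ∀ i, PicF.IsInvertible (G i)) : FlatMod.IsFinLocFreeOfRank k (⨁ G) := by
  have h1 : ∀ i, FlatMod.IsFinLocFreeOfRank 1 (G i) := fun i => Ega2.QCohLocal.isFinLocFreeOfRank_one_iff.mpr (hG i)
  have h2 : ∀ i, FlatMod.IsFinLocFree (G i) := fun i => isFinLocFree_of_rank (h1 i)
  rw [isFinLocFreeOfRank_iff]
  refine ⟨Pic13.H940.AddL.isFinLocFree_biproduct G h2, fun x => ?_⟩
  rw [rk_biproduct G h2 x, Finset.sum_congr rfl fun i _ => rk_of_rank (h1 i) x]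
  simp

theorem cl_iso {E E' : X.Modules} (e : E ≅ E') (hE : FlatMod.IsFinLocFree E) : KRR.cl X E = KRR.cl X E' := by
  have hE' : FlatMod.IsFinLocFree E' := Dcoh.FinLocFree.isFinLocFree_of_iso e hE
  exact clSub_iso' e hE hE' (isZero_zero _) (Dcoh.FinLocFree.isFinLocFree_of_isZero (isZero_zero _))

theorem cl_biproduct : ∀ (k : ℕ) (G : Fin k → X.Modules) (_ : ∀ i, FlatMod.IsFinLocFree (G i)),
    KRR.cl X (⨁ G) = ∑ i, KRR.cl X (G i) := by
  intro k
  induction k with
  | zero =>
    intro G _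
    rw [Finset.univ_eq_empty, Finset.sum_empty]
    exact clSub_of_isZero (by
      rw [IsZero.iff_id_eq_zero]
      exact biproduct.hom_ext _ _ fun i => i.elim0)
  | succ k ih =>
    intro G hG
    have h1 : K706.Sem.cl (⨁ G) = K706.Sem.cl ((⨁ fun i : Fin k => G i.castSucc) ⊞ G (Fin.last k)) := by
      rw [K706.Sem.cl_biproduct_fin, K706.Sem.cl_biprod, K706.Sem.cl_biproduct_fin, Fin.sum_univ_castSucc]
    obtain ⟨e⟩ := K706.Sem.cl_eq_iff.mp h1
    have h2 := Pic13.H940.AddL.isFinLocFree_biproduct (fun i : Fin k => G i.castSucc) fun i => hG _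
    rw [cl_iso e (Pic13.H940.AddL.isFinLocFree_biproduct G hG), Fin.sum_univ_castSucc, ← ih _ fun i => hG _]
    exact clSub_biprod h2 (hG _) (isFinLocFree_biprod h2 (hG _))

/-- The alternating sum of the classes of an acyclic bounded complex of finite locally free modules. -/
theorem sum_eq_zero (C : CochainComplex X.Modules ℕ) (hC : C.Acyclic) (hP : ∀ i, FlatMod.IsFinLocFree (C.X i)) (n : ℕ)
    (hn : ∀ i, n < i → IsZero (C.X i)) :
    ∑ i ∈ Finset.range (n + 1), (-1 : ℤ) ^ i • KRR.cl X (C.X i) = 0 :=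
  K389.AltSum.sum_eq_zero _ (fun _ hS h₂ h₃ => Sga67.SelfIntMain.isFinLocFree_kernel hS h₂ h₃)
    (fun _ hZ => Dcoh.FinLocFree.isFinLocFree_of_isZero hZ) C hC hP n hn

end K389.SumCl
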