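import Groth.Agent.IntSh.K389.Lam
import Groth.Agent.IntSh.K389.SumCl
import Groth.Agent.ArSurf.K482.DetPic
import Groth.Prelude.Def_KDet

/-!
# The element `δ` as an alternating sum of exterior powers; determinants in `PicLoc.PicSet`
-/

set_option autoImplicit false
set_option backward.isDefEq.respectTransparency false
universe u
open CategoryTheory CategoryTheory.Limits AlgebraicGeometry TopologicalSpace Opposite

namespace K389.KDelta

open Groth.Agent K482.DetPic K482.CanonTool Krr.H495.Rank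
open Groth.Agent.Grpsch.PicGrp

attribute [local instance] Abelian.hasFiniteBiproducts

section Det

variable {Y : Scheme.{u}} [PicGrp.Law Y]

/-- The comparison of the two models of the Picard group. -/
noncomputable def toSet (Y : Scheme.{u}) [PicGrp.Law Y] : Pic Y →* PicLoc.PicSet Y where
  toFun := Quotient.lift (fun L => PicGrp.cls L.1 L.2) (fun L M e => (PicGrp.cls_eq_cls_iff L.2 M.2).mpr e)
  map_one' := PicGrp.cls_structureModule_eq_one
  map_mul' a b := by
    induction a using ind with | _ L hL => ?_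
    induction b using ind with | _ M hM => ?_
    exact Subtype.ext (PicGrp.cls_mul_cls_val hL hM).symm

theorem toSet_mk {L : Y.Modules} (hL : PicF.IsInvertible L) : toSet Y (mk L hL) = PicGrp.cls L hL := rfl

variable {KY : Type u} [CommRing KY] {φY : SGA6.Kvb Y →+ KY} {dt : KY →+ Additive (PicLoc.PicSet Y)}
  (hdt : KDet.IsDet φY dt)

include hdt in
theorem dt_cl {n : ℕ} {A : Y.Modules} (hA : FlatMod.IsFinLocFreeOfRank n A) :
    dt (φY (KRR.cl Y A)) = Additive.ofMul (toSet Y (det hA)) := by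
  obtain ⟨D, hD⟩ := exists_isExtPow n (isFinLocFree_of_rank hA)
  rw [hdt n A D (isInvertible_extPow hA hD) hA hD, ← mk_eq_det hA hD (isInvertible_extPow hA hD)]
  rfl

include hdt in
theorem dt_sum (s : Finset ℕ) (A : ℕ → Y.Modules) (a : ℕ → ℕ) (hA : ∀ p, FlatMod.IsFinLocFreeOfRank (a p) (A p))
    (h : ∏ p ∈ s, (det (hA p)) ^ ((-1 : ℤ) ^ p) = 1) :
    dt (∑ p ∈ s, ((-1 : ℤ) ^ p) • φY (KRR.cl Y (A p))) = 0 := by
  have h1 : ∀ p, dt (((-1 : ℤ) ^ p) • φY (KRR.cl Y (A p))) =
      Additive.ofMul (toSet Y ((det (hA p)) ^ ((-1 : ℤ) ^ p))) := by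
    intro p
    rw [map_zsmul, dt_cl hdt (hA p), map_zpow]
    rfl
  rw [map_sum, Finset.sum_congr rfl fun p _ => h1 p, ← ofMul_prod, ← map_prod, h, map_one]
  rfl

end Det

section Delta

variable {X : Scheme.{u}} {KX : Type u} [CommRing KX] [LambdaRing.LambdaOps KX] {PX : LambdaRing.PosStructure KX}
  {φX : SGA6.Kvb X →+ KX} (hKX : KRR.IsModel X KX PX φX) {k : ℕ} (M : Fin k → X.Modules)
  (hM : ∀ i, PicF.IsInvertible (M i)) (L : ℕ → X.Modules) (hL : ∀ p, ExtPow.IsExtPow p (⨁ M) (L p))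

include hKX in
theorem lam_eq_zero {N : X.Modules} (hN : PicF.IsInvertible N) (p : ℕ) (hp : 2 ≤ p) :
    LambdaRing.LambdaOps.lam p (φX (KRR.cl X N)) = 0 := by
  have h1 : FlatMod.IsFinLocFreeOfRank 1 N := Ega2.QCohLocal.isFinLocFreeOfRank_one_iff.mpr hN
  refine PX.lam_eq_zero _ ((hKX.mem_pos_iff _).mpr ⟨1, N, le_rfl, h1, rfl⟩) p ?_
  rw [hKX.aug_cl 1 N h1]
  push_cast
  omega

include hKX hM hL in
theorem delta_eq : KDet.delta φX M = ∑ p ∈ Finset.range (k + 1), ((-1 : ℤ) ^ p) • φX (KRR.cl X (L p)) := by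
  have hMf : ∀ i, FlatMod.IsFinLocFree (M i) := fun i =>
    isFinLocFree_of_rank (Ega2.QCohLocal.isFinLocFreeOfRank_one_iff.mpr (hM i))
  have hE := Pic13.H940.AddL.isFinLocFree_biproduct M hMf
  have h1 := K389.Lam.prod_one_sub (x := fun i => φX (KRR.cl X (M i))) (fun i p hp => lam_eq_zero hKX (hM i) p hp)
    Finset.univ k (by simp)
  refine h1.trans (Finset.sum_congr rfl fun p _ => ?_)
  rw [← map_sum, ← K389.SumCl.cl_biproduct k M hMf,
    hKX.map_lam p (⨁ M) (L p) hE (Sga67.LocBasis.isFinLocFree_of_isExtPow hE (hL p)) (hL p), zsmul_eq_mul]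
  push_cast
  rfl

include hKX hM hL in
/-- `[C] δ = ∑ (-1)^p [C ⊗ Λ^p]`. -/
theorem mul_delta_eq {C : X.Modules} (hC : FlatMod.IsFinLocFree C) :
    φX (KRR.cl X C) * KDet.delta φX M = ∑ p ∈ Finset.range (k + 1),
      ((-1 : ℤ) ^ p) • φX (KRR.cl X (((DCoh.tensorBi (X := X)).obj C).obj (L p))) := by
  have hMf : ∀ i, FlatMod.IsFinLocFree (M i) := fun i =>
    isFinLocFree_of_rank (Ega2.QCohLocal.isFinLocFreeOfRank_one_iff.mpr (hM i))
  have hE := Pic13.H940.AddL.isFinLocFree_biproduct M hMf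
  rw [delta_eq hKX M hM L hL, Finset.mul_sum]
  refine Finset.sum_congr rfl fun p _ => ?_
  rw [mul_smul_comm, hKX.map_mul C (L p) hC (Sga67.LocBasis.isFinLocFree_of_isExtPow hE (hL p))]

end Delta

end K389.KDelta
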