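import Groth.Prelude.Def_LambdaRing
import Mathlib.Algebra.BigOperators.Fin

/-!
# `∏ (1 - x_i) = Σ (-1)^p λ^p(Σ x_i)` for line elements
-/

set_option autoImplicit false

open Finset LambdaRing

namespace K389.Lam

variable {K : Type*} [CommRing K] [LambdaOps K]

theorem lam_add_line {m : K} (hm : ∀ p, 2 ≤ p → LambdaOps.lam p m = 0) (x : K) (p : ℕ) :
    LambdaOps.lam (p + 1) (x + m) = LambdaOps.lam (p + 1) x + LambdaOps.lam p x * m := by
  rw [LambdaOps.lam_add, Finset.sum_range_succ, Finset.sum_range_succ, Nat.sub_self, LambdaOps.lam_zero, mul_one,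
    Nat.add_sub_cancel_left, LambdaOps.lam_one, Finset.sum_eq_zero, zero_add, add_comm]
  intro i hi
  rw [Finset.mem_range] at hi
  rw [hm (p + 1 - i) (by omega), mul_zero]

theorem lam_zero_eq (p : ℕ) (hp : 1 ≤ p) (h : ∀ p, 2 ≤ p → LambdaOps.lam p (0 : K) = 0) :
    LambdaOps.lam p (0 : K) = 0 := by
  rcases Nat.lt_or_ge p 2 with h' | h'
  · obtain rfl : p = 1 := by omega
    exact LambdaOps.lam_one 0
  · exact h p h'

/-- `λ^p(0) = 0` for `p ≥ 1`. -/
theorem lam_zero_elt (p : ℕ) (hp : 1 ≤ p) : LambdaOps.lam p (0 : K) = 0 := by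
  induction p using Nat.strong_induction_on with
  | _ p ih =>
    rcases Nat.lt_or_ge p 2 with h' | h'
    · obtain rfl : p = 1 := by omega
      exact LambdaOps.lam_one 0
    · have h1 := LambdaOps.lam_add p (0 : K) 0
      rw [add_zero] at h1
      obtain ⟨q, rfl⟩ : ∃ q, p = q + 1 := ⟨p - 1, by omega⟩
      rw [Finset.sum_range_succ, Finset.sum_range_succ'] at h1
      have h2 : ∑ i ∈ range q, LambdaOps.lam (i + 1) (0 : K) * LambdaOps.lam (q + 1 - (i + 1)) 0 = 0 := by
        refine Finset.sum_eq_zero fun i hi => ?_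
        rw [Finset.mem_range] at hi
        rw [ih (i + 1) (by omega) (by omega), zero_mul]
      rw [h2, zero_add, Nat.sub_self, Nat.sub_zero, LambdaOps.lam_zero, one_mul, mul_one] at h1
      exact left_eq_add.mp h1

variable {ι : Type*} (x : ι → K)

theorem lam_sum_eq_zero (hx : ∀ i p, 2 ≤ p → LambdaOps.lam p (x i) = 0) (s : Finset ι) (p : ℕ) (hp : s.card < p) :
    LambdaOps.lam p (∑ i ∈ s, x i) = 0 := by
  classical
  induction s using Finset.induction_on generalizing p with
  | empty => simpa using lam_zero_elt p (by omega)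
  | insert a s ha ih =>
    rw [Finset.card_insert_of_notMem ha] at hp
    obtain ⟨q, rfl⟩ : ∃ q, p = q + 1 := ⟨p - 1, by omega⟩
    rw [Finset.sum_insert ha, add_comm (x a), lam_add_line (hx a), ih (q + 1) (by omega), ih q (by omega), zero_mul,
      add_zero]

theorem prod_one_sub (hx : ∀ i p, 2 ≤ p → LambdaOps.lam p (x i) = 0) (s : Finset ι) (n : ℕ) (hn : s.card ≤ n) :
    ∏ i ∈ s, (1 - x i) = ∑ p ∈ range (n + 1), (-1) ^ p * LambdaOps.lam p (∑ i ∈ s, x i) := by
  classical
  induction s using Finset.induction_on generalizing n with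
  | empty =>
    rw [Finset.prod_empty, Finset.sum_empty, Finset.sum_range_succ', LambdaOps.lam_zero, pow_zero, one_mul,
      Finset.sum_eq_zero, zero_add]
    intro p _
    rw [lam_zero_elt (p + 1) (by omega), mul_zero]
  | insert a s ha ih =>
    rw [Finset.card_insert_of_notMem ha] at hn
    obtain ⟨m, rfl⟩ : ∃ m, n = m + 1 := ⟨n - 1, by omega⟩
    rw [Finset.prod_insert ha, Finset.sum_insert ha, add_comm (x a), sub_mul, one_mul]
    rw [Finset.sum_range_succ']
    simp only [lam_add_line (hx a), LambdaOps.lam_zero, mul_add, Finset.sum_add_distrib]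
    have h1 := ih (m + 1) (by omega)
    have h2 := ih m (by omega)
    rw [Finset.sum_range_succ'] at h1
    simp only [LambdaOps.lam_zero] at h1
    have h3 : ∑ p ∈ range (m + 1), (-1 : K) ^ (p + 1) * (LambdaOps.lam p (∑ i ∈ s, x i) * x a) =
        - (x a * ∏ i ∈ s, (1 - x i)) := by
      rw [h2, Finset.mul_sum, ← Finset.sum_neg_distrib]
      refine Finset.sum_congr rfl fun p _ => ?_
      ring
    rw [h3, h1]
    ring

end K389.Lam
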