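import Groth.Agent.IntSh.K389.CosPull
import Groth.Agent.IntSh.K241.Kos
import Groth.Agent.IntSh.K241.DetPush
import Groth.Agent.Dcoh.MonPull292
import Groth.Agent.Dcoh.DerSch
import Groth.Agent.Fdesc.PullbackStalk
import Groth.Agent.IntSh.K879.ProjB
import Groth.Agent.IntSh.K879.KosCap
import Groth.Agent.S0033

/-!
# Determinants of the direct images of a twisted Koszul complex, over a flat base change

`det_eq_one`: over `h : U ⟶ Y` flat such that the pulled back cosection `s` does not vanish on the support of `F`,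
the alternating product of the determinants of `π_*(F ⊗ Λ^p E)` is trivial.
-/

set_option autoImplicit false
set_option backward.isDefEq.respectTransparency false
set_option backward.isDefEq.respectTransparency.types false
universe u
open CategoryTheory CategoryTheory.Limits AlgebraicGeometry TopologicalSpace Opposite

namespace K389.OverU

open Groth.Agent K389.Van K389.CosPull K482.DetPic K482.CanonTool
open Groth.Agent.Grpsch.PicGrp
open scoped Groth.Agent.Dcoh.MonCat

/-- Pullback commutes with tensor products. -/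
noncomputable def pullTens {X Y : Scheme.{u}} (f : X ⟶ Y) (A B : Y.Modules) :
    ((DCoh.tensorBi (X := X)).obj ((Scheme.Modules.pullback f).obj A)).obj ((Scheme.Modules.pullback f).obj B) ≅
      (Scheme.Modules.pullback f).obj (((DCoh.tensorBi (X := Y)).obj A).obj B) :=
  letI := Dcoh.MonPull.monPull f
  Functor.Monoidal.μIso (Scheme.Modules.pullback f) A B

/-- The support of a module contains the image of the support of its pull-back. -/
theorem mem_support_of_mem_support_pullback {X Y : Scheme.{u}} (p : Y ⟶ X) (F : X.Modules) (y : Y)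
    (h : y ∈ CohB1.support ((Scheme.Modules.pullback p).obj F)) : p y ∈ CohB1.support F := by
  intro h1
  have h1' : Subsingleton (F.presheaf.stalk (p y)) := h1
  apply h
  have h2 := Fdesc.PullbackStalk.span_range_canAdd p F y
  have h3 : Set.range (Fdesc.PullbackStalk.canAdd p F y) ⊆ {0} := by
    rintro _ ⟨t, rfl⟩
    rw [Subsingleton.elim t 0, map_zero]
    rfl
  have h4 : (⊤ : Submodule (Y.presheaf.stalk y)
      (((Scheme.Modules.pullback p).obj F).presheaf.stalk y)) = ⊥ := by
    rw [← h2, eq_bot_iff, Submodule.span_le]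
    exact h3
  exact (Submodule.subsingleton_iff (Y.presheaf.stalk y)).mp (subsingleton_of_bot_eq_top h4.symm)

/-- `R⁰π_* ≅ π_*`. -/
noncomputable def rzero {X Y : Scheme.{u}} (π : X ⟶ Y) [HasInjectiveResolutions X.Modules] :
    Coh.Rpush π 0 ≅ Coh.push π := K879.ProjB.rpushZero π

variable {X Y U XU : Scheme.{u}} (π : X ⟶ Y) [QuasiCompact π] [QuasiSeparated π]
  [HasInjectiveResolutions X.Modules] (h : U ⟶ Y) [Flat h] (g : XU ⟶ X) (πU : XU ⟶ U)
  (sq : IsPullback g πU π h)

include sq in
theorem bc [HasInjectiveResolutions XU.Modules] (G : X.Modules) (hG : Coh.IsQCoh G) (j : ℕ) :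
    Nonempty ((Coh.Rpush πU j).obj ((Scheme.Modules.pullback g).obj G) ≅
      (Scheme.Modules.pullback h).obj ((Coh.Rpush π j).obj G)) := by
  have := hG
  obtain ⟨e⟩ := S0033.result π h g πU sq G j
  exact ⟨e.symm⟩

variable {k : ℕ} {E : X.Modules} (hE : FlatMod.IsFinLocFreeOfRank k E) (L : ℕ → X.Modules)
  (hL : ∀ p, ExtPow.IsExtPow p E (L p)) (F : X.Modules) (hF : Coh.IsCoh F)
  (s : (Scheme.Modules.pullback g).obj E ⟶ Coh.structureModule XU)
  (hs : ∀ z : XU, g z ∈ CohB1.support F → ¬ Van s z)
  (hac : ∀ p j : ℕ, 0 < j → IsZero ((Coh.Rpush π j).obj (((DCoh.tensorBi (X := X)).obj F).obj (L p))))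
  (a : ℕ → ℕ) (hA : ∀ p, FlatMod.IsFinLocFreeOfRank (a p)
    ((Coh.push π).obj (((DCoh.tensorBi (X := X)).obj F).obj (L p))))

include sq hE hL hF hs hac in
theorem det_eq_one :
    ∏ p ∈ Finset.range (k + 1), (pull h (det (hA p))) ^ ((-1 : ℤ) ^ p) = 1 := by
  have hinj : HasInjectiveResolutions XU.Modules := Dcoh.DerSch.hasInjectiveResolutions XU
  have hE' := Krr.H495.Rank.isFinLocFree_of_rank hE
  have hLf : ∀ p, FlatMod.IsFinLocFree (L p) := fun p => Sga67.LocBasis.isFinLocFree_of_isExtPow hE' (hL p)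
  have hEU : FlatMod.IsFinLocFreeOfRank k ((Scheme.Modules.pullback g).obj E) :=
    Krr.H482.PullLambda.isFinLocFreeOfRank_pullback g hE
  have hLU : ∀ p, ExtPow.IsExtPow p ((Scheme.Modules.pullback g).obj E) ((Scheme.Modules.pullback g).obj (L p)) :=
    fun p => isExtPow_pullback g hE' (hL p)
  obtain ⟨d, w, hex, hepi⟩ := K241.Kos.exists_koszul hEU s (fun p => (Scheme.Modules.pullback g).obj (L p)) hLU
    ((Scheme.Modules.pullback g).obj F) (fun z hz => hs z (mem_support_of_mem_support_pullback g F z hz))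
  have hq : ∀ p, Coh.IsQCoh (((DCoh.tensorBi (X := X)).obj F).obj (L p)) := fun p =>
    (K879.KosCap.isCoh_tensor (hLf p) hF).1
  have e1 : ∀ p, ((DCoh.tensorBi (X := XU)).obj ((Scheme.Modules.pullback g).obj F)).obj
      ((Scheme.Modules.pullback g).obj (L p)) ≅
      (Scheme.Modules.pullback g).obj (((DCoh.tensorBi (X := X)).obj F).obj (L p)) := fun p => pullTens g F (L p)
  have e2 : ∀ p, Nonempty ((Coh.push πU).obj (((DCoh.tensorBi (X := XU)).obj ((Scheme.Modules.pullback g).obj F)).obj
      ((Scheme.Modules.pullback g).obj (L p))) ≅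
      (Scheme.Modules.pullback h).obj ((Coh.push π).obj (((DCoh.tensorBi (X := X)).obj F).obj (L p)))) := fun p => by
    obtain ⟨e⟩ := bc π h g πU sq _ (hq p) 0
    exact ⟨(Coh.push πU).mapIso (e1 p) ≪≫ (rzero πU).symm.app _ ≪≫ e ≪≫
      (Scheme.Modules.pullback h).mapIso ((rzero π).app _)⟩
  have hAp : ∀ p, FlatMod.IsFinLocFreeOfRank (a p) ((Scheme.Modules.pullback h).obj
      ((Coh.push π).obj (((DCoh.tensorBi (X := X)).obj F).obj (L p)))) := fun p =>
    Krr.H482.PullLambda.isFinLocFreeOfRank_pullback h (hA p)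
  have hAU : ∀ p, FlatMod.IsFinLocFreeOfRank (a p) ((Coh.push πU).obj (((DCoh.tensorBi (X := XU)).obj
      ((Scheme.Modules.pullback g).obj F)).obj ((Scheme.Modules.pullback g).obj (L p)))) := fun p =>
    Krr.H495.Rank.rank_iso (e2 p).some.symm (hAp p)
  have h1 := K241.DetPush.det_push πU (fun p => ((DCoh.tensorBi (X := XU)).obj ((Scheme.Modules.pullback g).obj F)).obj
      ((Scheme.Modules.pullback g).obj (L p))) (fun p => ((DCoh.tensorBi (X := XU)).obj _).map (d p)) w hex hepi k
    (fun p hp => Functor.map_isZero _ (Krr.H502.KosZero.isZero_of_isExtPow hEU (hLU p) hp))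
    (fun p j hj => by
      obtain ⟨e⟩ := bc π h g πU sq _ (hq p) j
      refine IsZero.of_iso (Functor.map_isZero (Scheme.Modules.pullback h) (hac p j hj))
        ((Coh.Rpush πU j).mapIso (e1 p) ≪≫ e)) a hAU
  rw [← h1]
  refine Finset.prod_congr rfl fun p _ => ?_
  rw [← det_pull h (hA p) (hAp p), det_congr (hAU p) (hAp p) (e2 p)]

end K389.OverU
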