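import Groth.Agent.IntSh.K389.Core
import Groth.Agent.IntSh.K389.KDelta
import Groth.Agent.S1027
import Groth.Agent.IntSh.K878.Cap
import Groth.Agent.CohqA.FinSec
import Groth.Agent.VarietyB.TensStalk
import Groth.Agent.Models2.FlatIso
import Groth.Agent.PerfB.StructFlat

/-!
# Triviality of the intersection sheaf of at least `d + 2` modules: the reduction

`dt_zero`: `det π_*^F([C] δ) = 0` when the twists `F ⊗ C ⊗ Λ^p` are acyclic; `main`: `det π_*^F(δ) = 0`.
-/

set_option autoImplicit false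
set_option backward.isDefEq.respectTransparency false
universe u
open CategoryTheory CategoryTheory.Limits AlgebraicGeometry TopologicalSpace Opposite

namespace K389.Red

open Groth.Agent K482.DetPic K482.CanonTool Krr.H495.Rank K389.VMain K389.KDelta
open Groth.Agent.Grpsch.PicGrp

attribute [local instance] Abelian.hasFiniteBiproducts

variable {X Y : Scheme.{u}}

theorem isFP_of_isCoh [IsLocallyNoetherian X] {M : X.Modules} (h : Coh.IsCoh M) : CohB1.IsFP M := by
  refine CohqA.FinSec.isFP_of_finitePresentation h.1 fun x => ?_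
  obtain ⟨U, hU, hx, -⟩ := exists_isAffineOpen_mem_and_subset (U := (⊤ : X.Opens)) (x := x) trivial
  refine ⟨U, hU, hx, ?_⟩
  have : IsNoetherianRing Γ(X, U) := IsLocallyNoetherian.component_noetherian ⟨U, hU⟩
  have := CohqA.FinSec.finite_sections hU h.1 h.2
  exact Module.finitePresentation_of_finite _ _

theorem isFlatOver_tensor (f : X ⟶ Y) {F E : X.Modules} (hE : FlatMod.IsFinLocFree E)
    (hF : FlatMod.IsFlatOver f F) : FlatMod.IsFlatOver f (((DCoh.tensorBi (X := X)).obj F).obj E) := by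
  refine Groth.Agent.Models2.FlatIso.isFlatOver_of_iso f (Groth.Agent.Ega2.Tens.swap E F) ?_
  intro x
  obtain ⟨n, U, hx, e, he⟩ := Groth.Agent.VarietyB.ExactLoc.hasBasis_of_isFinLocFree hE x
  let eq := Groth.Agent.VarietyB.TensStalk.stalkEquiv he F hx
  let a1 : Module (Y.presheaf.stalk (f x)) (F.presheaf.stalk x) := FlatMod.moduleStalkOver f F x
  let a2 : Module (Y.presheaf.stalk (f x)) ((CohB1.tensorMod E F).presheaf.stalk x) :=
    FlatMod.moduleStalkOver f (CohB1.tensorMod E F) x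
  have h1 : Module.Flat (Y.presheaf.stalk (f x)) (F.presheaf.stalk x) := hF x
  have h3 : Module.Flat (Y.presheaf.stalk (f x)) (Π₀ _ : Fin n, F.presheaf.stalk x) :=
    Module.Flat.dfinsupp_iff.mpr fun _ => h1
  have h2 : Module.Flat (Y.presheaf.stalk (f x)) (Fin n → F.presheaf.stalk x) :=
    Module.Flat.of_linearEquiv (DFinsupp.linearEquivFunOnFintype
      (R := Y.presheaf.stalk (f x)) (M := fun _ : Fin n => F.presheaf.stalk x)).symm
  let e' : (CohB1.tensorMod E F).presheaf.stalk x ≃ₗ[Y.presheaf.stalk (f x)]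
      (Fin n → F.presheaf.stalk x) :=
    { eq with
      map_smul' := fun r m => eq.map_smul ((f.stalkMap x).hom r) m }
  exact Module.Flat.of_linearEquiv e'

section

variable [IsLocallyNoetherian X] [IsLocallyNoetherian Y] (π : X ⟶ Y) [IsProper π] [HasInjectiveResolutions X.Modules]

/-- Direct images of acyclic flat coherent modules are finite locally free. -/
theorem push_flf {F : X.Modules} (hF : Coh.IsCoh F) (hFf : FlatMod.IsFlatOver π F)
    (hac : ∀ j : ℕ, 0 < j → IsZero ((Coh.Rpush π j).obj F)) : FlatMod.IsFinLocFree ((Coh.push π).obj F) := by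
  have : LocallyOfFinitePresentation π := LocallyOfFinitePresentation.iff_locallyOfFiniteType.mpr inferInstance
  exact S1027.result π F (isFP_of_isCoh hF) hFf (PerfB.StructFlat.isProperOver_support π (isFP_of_isCoh hF)) hac

variable [ConnectedSpace Y] {k : ℕ}
    (M : Fin k → X.Modules) (hM : ∀ i, PicF.IsInvertible (M i))
    (G' : Fin k → Y.Modules) (hG' : ∀ i, FlatMod.IsFinLocFree (G' i))
    (m : ∀ i, M i ⟶ (Scheme.Modules.pullback π).obj (G' i)) (hm : ∀ i, NonVan π (m i))
    (L : ℕ → X.Modules) (hL : ∀ p, ExtPow.IsExtPow p (⨁ M) (L p))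
    (F : X.Modules) (hF : Coh.IsCoh F) (hFf : FlatMod.IsFlatOver π F) (d : ℕ) (hk : d + 2 ≤ k)
    (hd : ∀ x ∈ CohB1.support F, Dual3.resTrdeg π x ≤ d)
    {KX : Type u} [CommRing KX] [LambdaRing.LambdaOps KX] {PX : LambdaRing.PosStructure KX}
    {φX : SGA6.Kvb X →+ KX} (hKX : KRR.IsModel X KX PX φX)
    {KY : Type u} [CommRing KY] {φY : SGA6.Kvb Y →+ KY}
    (g : KX →+ KY) (hg : KDet.IsPushF π F φX φY g)
    [PicGrp.Law Y] (dt : KY →+ Additive (PicLoc.PicSet Y)) (hdt : KDet.IsDet φY dt)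

include hM hG' hm hL hF hFf hk hd hKX hg hdt in
theorem dt_zero (hDep : K389.Core.DepthStmt.{u}) (C : X.Modules) (hC : FlatMod.IsFinLocFree C)
    (hac : ∀ p j : ℕ, 0 < j → IsZero ((Coh.Rpush π j).obj (((DCoh.tensorBi (X := X)).obj F).obj
      (((DCoh.tensorBi (X := X)).obj C).obj (L p))))) :
    dt (g (φX (KRR.cl X C) * KDet.delta φX M)) = 0 := by
  have hMf : ∀ i, FlatMod.IsFinLocFree (M i) := fun i =>
    isFinLocFree_of_rank (Ega2.QCohLocal.isFinLocFreeOfRank_one_iff.mpr (hM i))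
  have hE := K389.SumCl.rank_sum_invertible M hM
  have hLf : ∀ p, FlatMod.IsFinLocFree (L p) := fun p =>
    Sga67.LocBasis.isFinLocFree_of_isExtPow (isFinLocFree_of_rank hE) (hL p)
  let F' : X.Modules := ((DCoh.tensorBi (X := X)).obj F).obj C
  have hF' : Coh.IsCoh F' := K879.KosCap.isCoh_tensor hC hF
  have hFf' : FlatMod.IsFlatOver π F' := isFlatOver_tensor π hC hFf
  have hd' : ∀ x ∈ CohB1.support F', Dual3.resTrdeg π x ≤ d := fun x hx =>
    hd x (K878.Cap.support_tensor_left F C hx)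
  let e : ∀ p, ((DCoh.tensorBi (X := X)).obj F').obj (L p) ≅
      ((DCoh.tensorBi (X := X)).obj F).obj (((DCoh.tensorBi (X := X)).obj C).obj (L p)) :=
    fun p => Ega2.Tens.assoc F C (L p)
  have hac' : ∀ p j : ℕ, 0 < j → IsZero ((Coh.Rpush π j).obj (((DCoh.tensorBi (X := X)).obj F').obj (L p))) :=
    fun p j hj => (hac p j hj).of_iso ((Coh.Rpush π j).mapIso (e p))
  have hAf : ∀ p, FlatMod.IsFinLocFree ((Coh.push π).obj (((DCoh.tensorBi (X := X)).obj F').obj (L p))) := fun p =>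
    push_flf π (K879.KosCap.isCoh_tensor (hLf p) hF') (isFlatOver_tensor π (hLf p) hFf') (hac' p)
  choose a hA using fun p => exists_rank_of_connected (hAf p)
  have h1 := K389.Core.core π M hM G' hG' m hm hE L hL F' hF' d hk hd' hac' a hA hDep
  have h2 := dt_sum hdt (Finset.range (k + 1)) _ a hA h1
  rw [mul_delta_eq hKX M hM L hL hC, map_sum, ← h2]
  congr 1
  refine Finset.sum_congr rfl fun p _ => ?_
  rw [map_zsmul]
  congr 1
  have hAf' := hAf p
  have e2 : (Coh.push π).obj (((DCoh.tensorBi (X := X)).obj F').obj (L p)) ≅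
      (Coh.push π).obj (((DCoh.tensorBi (X := X)).obj F).obj (((DCoh.tensorBi (X := X)).obj C).obj (L p))) :=
    (Coh.push π).mapIso (e p)
  exact (hg _ (Sga67.LocBasis.isFinLocFree_tensorMod hC (hLf p)) (hac p)
    (Dcoh.FinLocFree.isFinLocFree_of_iso e2 hAf')).trans (congrArg φY (K389.SumCl.cl_iso e2 hAf').symm)

include hM hG' hm hF hFf hk hd hKX hg hdt in
/-- The reduction to acyclic twists. -/
theorem main (hDep : K389.Core.DepthStmt.{u})
    (hres : ∀ F' : X.Modules, Coh.IsCoh F' → FlatMod.IsFlatOver π F' → CohB1.support F' ⊆ CohB1.support F →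
      ∃ (C : CochainComplex X.Modules ℕ) (_ : Coh.structureModule X ≅ C.X 0),
      C.Acyclic ∧ (∀ i, d + 1 < i → IsZero (C.X i)) ∧ (∀ i, FlatMod.IsFinLocFree (C.X i)) ∧
      ∀ i, 1 ≤ i → ∀ p, 0 < p →
        IsZero ((Coh.Rpush π p).obj (((DCoh.tensorBi (X := X)).obj F').obj (C.X i)))) :
    dt (g (KDet.delta φX M)) = 0 := by
  have hE := K389.SumCl.rank_sum_invertible M hM
  choose L hL using fun p => exists_isExtPow p (isFinLocFree_of_rank hE)
  have hLf : ∀ p, FlatMod.IsFinLocFree (L p) := fun p =>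
    Sga67.LocBasis.isFinLocFree_of_isExtPow (isFinLocFree_of_rank hE) (hL p)
  let T : X.Modules := ⨁ fun p : Fin (k + 1) => L p
  have hT : FlatMod.IsFinLocFree T := Pic13.H940.AddL.isFinLocFree_biproduct _ fun p => hLf p
  let F' : X.Modules := ((DCoh.tensorBi (X := X)).obj F).obj T
  obtain ⟨C, e0, hac, hz, hf, hv⟩ := hres F' (K879.KosCap.isCoh_tensor hT hF) (isFlatOver_tensor π hT hFf)
    (K878.Cap.support_tensor_left F T)
  -- the vanishing for the twists
  have hvan : ∀ i p j : ℕ, 1 ≤ i → 0 < j → IsZero ((Coh.Rpush π j).obj (((DCoh.tensorBi (X := X)).obj F).obj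
      (((DCoh.tensorBi (X := X)).obj (C.X i)).obj (L p)))) := by
    intro i p j hi hj
    rcases Nat.lt_or_ge k p with hp | hp
    · have h0 : IsZero (L p) := Krr.H502.KosZero.isZero_of_isExtPow hE (hL p) hp
      exact Functor.map_isZero _ (Functor.map_isZero _ (Functor.map_isZero _ h0))
    · let q : Fin (k + 1) := ⟨p, Nat.lt_succ_of_le hp⟩
      let inc : L p ⟶ T := biproduct.ι (fun p : Fin (k + 1) => L p) q
      let pro : T ⟶ L p := biproduct.π (fun p : Fin (k + 1) => L p) q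
      have hip : inc ≫ pro = 𝟙 _ := biproduct.ι_π_self _ q
      let e1 : ((DCoh.tensorBi (X := X)).obj F).obj (((DCoh.tensorBi (X := X)).obj (C.X i)).obj (L p)) ≅
          ((DCoh.tensorBi (X := X)).obj (((DCoh.tensorBi (X := X)).obj F).obj (L p))).obj (C.X i) :=
        ((DCoh.tensorBi (X := X)).obj F).mapIso (Ega2.Tens.swap (C.X i) (L p)) ≪≫
          (Ega2.Tens.assoc F (L p) (C.X i)).symm
      refine IsZero.of_iso ?_ ((Coh.Rpush π j).mapIso e1)
      let Φ : X.Modules ⥤ Y.Modules := ((DCoh.tensorBi (X := X)).obj F) ⋙ (DCoh.tensorBi (X := X)).flip.obj (C.X i) ⋙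
        Coh.Rpush π j
      have h1 : IsZero (Φ.obj T) := hv i hi j hj
      have h2 : Φ.map inc ≫ Φ.map pro = 𝟙 (Φ.obj (L p)) := by
        rw [← Φ.map_comp, hip, Φ.map_id]
      have h3 : IsZero (Φ.obj (L p)) := by
        rw [IsZero.iff_id_eq_zero, ← h2, h1.eq_zero_of_tgt (Φ.map inc), zero_comp]
      exact h3
  have h4 : ∀ i, 1 ≤ i → dt (g (φX (KRR.cl X (C.X i)) * KDet.delta φX M)) = 0 := fun i hi =>
    dt_zero π M hM G' hG' m hm L hL F hF hFf d hk hd hKX g hg dt hdt hDep (C.X i) (hf i)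
      (fun p j hj => hvan i p j hi hj)
  have h5 := K389.SumCl.sum_eq_zero C hac hf (d + 1) hz
  let Ψ : SGA6.Kvb X →+ Additive (PicLoc.PicSet Y) :=
    (dt.comp (g.comp (AddMonoidHom.mulRight (KDet.delta φX M)))).comp φX
  have hΨ : ∀ c, Ψ c = dt (g (φX c * KDet.delta φX M)) := fun _ => rfl
  have h6 : Ψ (∑ i ∈ Finset.range (d + 1 + 1), ((-1 : ℤ) ^ i) • KRR.cl X (C.X i)) = 0 := by
    rw [h5, map_zero]
  rw [map_sum, Finset.sum_range_succ', Finset.sum_eq_zero, zero_add, pow_zero, one_smul, hΨ,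
    ← K389.SumCl.cl_iso e0 PerfB.StructFlat.isFinLocFree_structure, hKX.map_one, one_mul] at h6
  · exact h6
  · intro i _
    rw [map_zsmul, hΨ, h4 (i + 1) (by omega), smul_zero]

end

end K389.Red
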