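import Groth.Agent.IntSh.K389.VSec

/-!
# Residue fields on the base change of a vector bundle

`adjoin_eq_top`: the residue field at `z` is generated over the residue field of `g z` by the values of the
coordinates.
-/

set_option autoImplicit false
set_option backward.isDefEq.respectTransparency false
universe u
open CategoryTheory CategoryTheory.Limits AlgebraicGeometry TopologicalSpace Opposite

namespace K389.VGen

open Groth.Agent Groth.Agent.Fdesc.LocGen K36.QSpec K36.SymAlg K305.VBLoc K389.Van K389.VSec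

section Gen

variable {X : Scheme.{u}}

theorem eval_ores {U V : X.Opens} (h : V ≤ U) (x : X) (hx : x ∈ V) (a : Γ(X, U)) :
    X.evaluation V x hx (ores h a) = X.evaluation U x (h hx) a := by
  change (X.presheaf.map (homOfLE h).op ≫ X.evaluation V x hx) a = _
  rw [← X.germ_residue x hx, ← X.germ_residue x (h hx), ← Category.assoc, TopCat.Presheaf.germ_res]

theorem mem_of_isPushout {A B C D : CommRingCat.{u}} {f : C ⟶ A} {g : C ⟶ B} {a : A ⟶ D} {b : B ⟶ D}
    (h : IsPushout f g a b) (R : Subring D) (h1 : ∀ x, a x ∈ R) (h2 : ∀ x, b x ∈ R) (d : D) : d ∈ R := by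
  let i : CommRingCat.of R ⟶ D := CommRingCat.ofHom R.subtype
  let a' : A ⟶ CommRingCat.of R := CommRingCat.ofHom (a.hom.codRestrict R h1)
  let b' : B ⟶ CommRingCat.of R := CommRingCat.ofHom (b.hom.codRestrict R h2)
  have w : f ≫ a' = g ≫ b' := by
    ext x
    exact congr($(h.w) x)
  have h3 : h.desc a' b' w ≫ i = 𝟙 D := by
    apply h.hom_ext
    · rw [IsPushout.inl_desc_assoc, Category.comp_id]; rfl
    · rw [IsPushout.inr_desc_assoc, Category.comp_id]; rfl
  have h4 : i (h.desc a' b' w d) = d := congr($h3 d)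
  rw [← h4]
  exact (h.desc a' b' w d).2

theorem exists_frac {U : X.Opens} (hU : IsAffineOpen U) (x : X) (hx : x ∈ U) (w : X.residueField x) :
    ∃ a b : Γ(X, U), X.evaluation U x hx b ≠ 0 ∧ w * X.evaluation U x hx b = X.evaluation U x hx a := by
  obtain ⟨s, rfl⟩ := X.residue_surjective x w
  let := X.presheaf.algebra_section_stalk ⟨x, hx⟩
  have hloc : IsLocalization (hU.primeIdealOf ⟨x, hx⟩).asIdeal.primeCompl (X.presheaf.stalk x) :=
    hU.isLocalization_stalk ⟨x, hx⟩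
  obtain ⟨⟨a, b⟩, hab⟩ := IsLocalization.surj (hU.primeIdealOf ⟨x, hx⟩).asIdeal.primeCompl s
  have hb : IsUnit (X.presheaf.germ U x hx b.1) :=
    IsLocalization.map_units (X.presheaf.stalk x) b
  refine ⟨a, b.1, ?_, ?_⟩
  · change X.residue x (X.presheaf.germ U x hx b.1) ≠ 0
    exact (hb.map (X.residue x).hom).ne_zero
  · change X.residue x s * X.residue x (X.presheaf.germ U x hx b.1) = X.residue x (X.presheaf.germ U x hx a)
    rw [← map_mul]
    exact congrArg _ hab

end Gen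

variable {X Y X' : Scheme.{u}} {A : RelSpec.QCAlg Y} {π : X ⟶ Y} {g : X' ⟶ X} {π' : X' ⟶ A.spec}
  (H : IsPullback g π' π A.π) {E : Y.Modules} {j : E ⟶ A.toModule}

/-- `A(W)` is generated by `O(W)` and a spanning family of `E(W)`. -/
theorem mem_of_span (hE : Coh.IsQCoh E) (hA : RelSpec.IsSymAlg E A j) {W : Y.Opens} (hW : IsAffineOpen W)
    {κ : Type*} (b : κ → Γ(E, W)) (hb : Submodule.span Γ(Y, W) (Set.range b) = ⊤)
    (R : Subring (A.presheaf.obj (op W))) (h1 : ∀ a, (A.str.app (op W)).hom a ∈ R)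
    (h2 : ∀ k, jApp E A j W (b k) ∈ R) (t : A.presheaf.obj (op W)) : t ∈ R := by
  obtain ⟨t, rfl⟩ := (bijective_symHom hE hA W hW).2 t
  have h3 : ∀ e : Γ(E, W), jApp E A j W e ∈ R := by
    intro e
    have he : e ∈ Submodule.span Γ(Y, W) (Set.range b) := hb ▸ Submodule.mem_top
    induction he using Submodule.span_induction with
    | mem x hx => obtain ⟨k, rfl⟩ := hx; exact h2 k
    | zero => rw [map_zero]; exact R.zero_mem
    | add x y _ _ hx hy => rw [map_add]; exact R.add_mem hx hy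
    | smul a x _ hx => rw [jApp_smul]; exact R.mul_mem (h1 a) hx
  induction t using SymmetricAlgebra.induction with
  | algebraMap r => rw [symHom_algebraMap]; exact h1 r
  | ι x => rw [symHom_ι]; exact h3 x
  | mul a b ha hb => rw [map_mul]; exact R.mul_mem ha hb
  | add a b ha hb => rw [map_add]; exact R.add_mem ha hb

include H in
/-- Values of functions at `z` lie in every subfield containing the values of functions from `X` and of the
coordinates. -/
theorem eval_mem (hE : Coh.IsQCoh E) (hA : RelSpec.IsSymAlg E A j) {W : Y.Opens} (hW : IsAffineOpen W)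
    {κ : Type*} (b : κ → Γ(E, W)) (hb : Submodule.span Γ(Y, W) (Set.range b) = ⊤)
    {U : X.Opens} (hU : IsAffineOpen U) (hUW : U ≤ π ⁻¹ᵁ W) (z : X') (hz : g z ∈ U)
    (R : Subring (X'.residueField z))
    (h1 : ∀ a : Γ(X, U), g.residueFieldMap z (X.evaluation U (g z) hz a) ∈ R)
    (h2 : ∀ k, X'.evaluation (g ⁻¹ᵁ (π ⁻¹ᵁ W)) z (hUW hz) (rho H.w W (jApp E A j W (b k))) ∈ R)
    (t : Γ(X', g ⁻¹ᵁ U)) : X'.evaluation (g ⁻¹ᵁ U) z hz t ∈ R := by
  have hUY : g ⁻¹ᵁ U = g ⁻¹ᵁ U ⊓ π' ⁻¹ᵁ (A.π ⁻¹ᵁ W) :=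
    (inf_eq_left.mpr ((g.preimage_mono hUW).trans (le_pre H.w W))).symm
  have h3 := (isIso_pushoutSection_iff H (US := W) (UT := A.π ⁻¹ᵁ W) (UX := U) le_rfl hUW
    (UY := g ⁻¹ᵁ U) hUY).1 (isIso_pushoutSection_of_isAffineOpen H le_rfl hUW hUY hW
      (hW.preimage A.π) hU)
  refine mem_of_isPushout h3 (R.comap (X'.evaluation (g ⁻¹ᵁ U) z hz).hom) (fun a => ?_) (fun c => ?_) t
  · change X'.evaluation (g ⁻¹ᵁ U) z hz (g.appLE U (g ⁻¹ᵁ U) _ a) ∈ R
    have h4 : g.appLE U (g ⁻¹ᵁ U) le_rfl = g.app U := (Scheme.Hom.app_eq_appLE g).symm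
    rw [h4, ← Scheme.evaluation_naturality_apply]
    exact h1 a
  · have hb' : Function.Bijective (thetaApp A W) := by
      have := isIso_gammaAff A W hW
      have h5 : thetaApp A W = inv (A.gammaAff W hW) := by
        rw [eq_comm, IsIso.inv_eq_of_inv_hom_id]
        exact thetaApp_gammaAff A W hW
      rw [h5]
      exact ConcreteCategory.bijective_of_isIso _
    obtain ⟨c, rfl⟩ := hb'.2 c
    have key : ∀ e : A.presheaf.obj (op W), X'.evaluation (g ⁻¹ᵁ U) z hz
        (π'.appLE (A.π ⁻¹ᵁ W) (g ⁻¹ᵁ U) (by rw [hUY]; exact inf_le_right) (thetaApp A W e)) =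
        X'.evaluation (g ⁻¹ᵁ (π ⁻¹ᵁ W)) z (hUW hz) (rho H.w W e) := by
      intro e
      rw [← eval_ores (g.preimage_mono hUW) z hz]
      congr 1
      change _ = (rho H.w W ≫ X'.presheaf.map (homOfLE (g.preimage_mono hUW)).op) e
      rw [rho, Category.assoc, Scheme.Hom.appLE_map]
      rfl
    refine mem_of_span hE hA hW b hb (R.comap ((thetaApp A W ≫ π'.appLE (A.π ⁻¹ᵁ W) (g ⁻¹ᵁ U)
      (by rw [hUY]; exact inf_le_right) ≫ X'.evaluation (g ⁻¹ᵁ U) z hz).hom)) (fun a => ?_) (fun k => ?_) c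
    · change X'.evaluation (g ⁻¹ᵁ U) z hz (π'.appLE (A.π ⁻¹ᵁ W) (g ⁻¹ᵁ U) _ (thetaApp A W _)) ∈ R
      rw [key]
      have h6 : rho H.w W ((A.str.app (op W)).hom a) = g.app (π ⁻¹ᵁ W) (π.app W a) :=
        congr($(str_rho H.w W) a)
      rw [h6, ← Scheme.evaluation_naturality_apply, ← eval_ores hUW (g z) hz]
      exact h1 _
    · change X'.evaluation (g ⁻¹ᵁ U) z hz (π'.appLE (A.π ⁻¹ᵁ W) (g ⁻¹ᵁ U) _ (thetaApp A W _)) ∈ R
      rw [key]
      exact h2 k

include H in
/-- The residue field at `z` is generated over the residue field of `g z` by the values of the coordinates. -/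
theorem adjoin_eq_top (hE : Coh.IsQCoh E) (hA : RelSpec.IsSymAlg E A j) {W : Y.Opens} (hW : IsAffineOpen W)
    {κ : Type*} (b : κ → Γ(E, W)) (hb : Submodule.span Γ(Y, W) (Set.range b) = ⊤)
    {U : X.Opens} (hU : IsAffineOpen U) (hUW : U ≤ π ⁻¹ᵁ W) (z : X') (hz : g z ∈ U)
    (S : Subfield (X'.residueField z))
    (h1 : ∀ a : X.residueField (g z), g.residueFieldMap z a ∈ S)
    (h2 : ∀ k, X'.evaluation (g ⁻¹ᵁ (π ⁻¹ᵁ W)) z (hUW hz) (rho H.w W (jApp E A j W (b k))) ∈ S) : S = ⊤ := by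
  rw [eq_top_iff]
  intro w _
  have hU' : IsAffineOpen (g ⁻¹ᵁ U) := by
    have : IsAffineHom g := MorphismProperty.of_isPullback H.flip inferInstance
    exact hU.preimage g
  obtain ⟨a, b', hb', hw⟩ := exists_frac hU' z hz w
  have ha := eval_mem H hE hA hW b hb hU hUW z hz S.toSubring (fun a => h1 _) h2 a
  have hb'' := eval_mem H hE hA hW b hb hU hUW z hz S.toSubring (fun a => h1 _) h2 b'
  have h3 : w = X'.evaluation (g ⁻¹ᵁ U) z hz a * (X'.evaluation (g ⁻¹ᵁ U) z hz b')⁻¹ := by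
    rw [← hw, mul_assoc, mul_inv_cancel₀ hb', mul_one]
  rw [h3]
  exact S.mul_mem ha (S.inv_mem hb'')

end K389.VGen
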