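import Groth.Agent.Cyc.K305.VBLoc
import Groth.Agent.Krr.H490.LocBasisPull
import Groth.Agent.IntSh.K389.Van

/-!
# The universal section over a vector bundle and its base change

For `A` a quasi-coherent algebra on `Y`, `j : E ⟶ A`, a commutative square `g ≫ π = π' ≫ A.π` and
`m : M ⟶ π^*E` there is the cosection `sect sq j m : g^*M ⟶ O`; its values (`secForm_sect`).
-/

set_option autoImplicit false
set_option backward.isDefEq.respectTransparency false
universe u
open CategoryTheory CategoryTheory.Limits AlgebraicGeometry TopologicalSpace Opposite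

namespace K389.VSec

open Groth.Agent Groth.Agent.Fdesc.LocGen K36.QSpec K36.SymAlg K305.VBLoc K389.Van

variable {X Y X' : Scheme.{u}} {A : RelSpec.QCAlg Y} {π : X ⟶ Y} {g : X' ⟶ X} {π' : X' ⟶ A.spec}
  (sq : g ≫ π = π' ≫ A.π)

include sq in
theorem le_pre (W : Y.Opens) : g ⁻¹ᵁ (π ⁻¹ᵁ W) ≤ π' ⁻¹ᵁ (A.π ⁻¹ᵁ W) := by
  rw [← Scheme.Hom.comp_preimage, ← Scheme.Hom.comp_preimage, sq]

/-- Functions on `X'` from sections of `A`. -/
noncomputable def rho (W : Y.Opens) : A.presheaf.obj (op W) ⟶ Γ(X', g ⁻¹ᵁ (π ⁻¹ᵁ W)) :=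
  thetaApp A W ≫ π'.appLE (A.π ⁻¹ᵁ W) (g ⁻¹ᵁ (π ⁻¹ᵁ W)) (le_pre sq W)

theorem str_rho (W : Y.Opens) : A.str.app (op W) ≫ rho sq W = π.app W ≫ g.app (π ⁻¹ᵁ W) := by
  rw [rho, ← Category.assoc, str_thetaApp, Scheme.Hom.app_eq_appLE, Scheme.Hom.appLE_comp_appLE]
  have h1 : π.app W ≫ g.app (π ⁻¹ᵁ W) = (g ≫ π).appLE W (g ⁻¹ᵁ (π ⁻¹ᵁ W)) le_rfl :=
    (Scheme.Hom.comp_app g π W).symm.trans (Scheme.Hom.app_eq_appLE _)
  rw [h1]
  congr 1
  exact sq.symm

theorem rho_res {U V : Y.Opens} (h : V ≤ U) :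
    A.presheaf.map (homOfLE h).op ≫ rho sq V =
      rho sq U ≫ X'.presheaf.map (homOfLE (g.preimage_mono (π.preimage_mono h))).op := by
  rw [rho, rho, ← Category.assoc, thetaApp_res, Category.assoc, Category.assoc, Scheme.Hom.map_appLE,
    Scheme.Hom.appLE_map]

variable {E : Y.Modules} (j : E ⟶ A.toModule)

/-- The values of the universal cosection on `X'`. -/
noncomputable def al : E ⟶ (Scheme.Modules.pushforward π).obj
    ((Scheme.Modules.pushforward g).obj (Coh.structureModule X')) :=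
  mkHom (fun U => ((ofFun (X := X') (U := g ⁻¹ᵁ (π ⁻¹ᵁ U))).toAddMonoidHom.comp
      (rho sq U).hom.toAddMonoidHom).comp (jApp E A j U))
    (fun U a m => by
      have h1 := jApp_smul E A j U a m
      have h2 := congr($(str_rho sq U) a)
      change (rho sq U).hom (jApp E A j U (a • m)) = _
      rw [h1]
      refine (map_mul (rho sq U).hom _ _).trans ?_
      exact congr($h2 * _))
    (fun U V h m => by
      have h1 := jApp_res E A j h m
      have h2 := congr($(rho_res sq h) (jApp E A j U m))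
      change (rho sq V).hom (jApp E A j V (res E h m)) = _
      exact (congrArg (rho sq V).hom h1).trans h2)

theorem al_app (U : Y.Opens) (e : Γ(E, U)) :
    (al sq j).app U e = (ofFun (rho sq U (jApp E A j U e)) : Γ(Coh.structureModule X', g ⁻¹ᵁ (π ⁻¹ᵁ U))) := rfl

/-- The transpose. -/
noncomputable def be : (Scheme.Modules.pullback π).obj E ⟶ (Scheme.Modules.pushforward g).obj (Coh.structureModule X') :=
  ((Scheme.Modules.pullbackPushforwardAdjunction π).homEquiv _ _).symm (al sq j)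

theorem be_app (U : Y.Opens) (e : Γ(E, U)) :
    (be sq j).app (π ⁻¹ᵁ U) (pullSec π e) =
      (ofFun (rho sq U (jApp E A j U e)) : Γ(Coh.structureModule X', g ⁻¹ᵁ (π ⁻¹ᵁ U))) := by
  rw [← homEquiv_app, be, Equiv.apply_symm_apply, al_app]

variable {M : X.Modules} (m : M ⟶ (Scheme.Modules.pullback π).obj E)

/-- The cosection of `g^*M`. -/
noncomputable def sect : (Scheme.Modules.pullback g).obj M ⟶ Coh.structureModule X' :=
  ((Scheme.Modules.pullbackPushforwardAdjunction g).homEquiv _ _).symm (m ≫ be sq j)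

theorem sect_app (U : X.Opens) (μ : Γ(M, U)) :
    (sect sq j m).app (g ⁻¹ᵁ U) (pullSec g μ) = (be sq j).app U (m.app U μ) := by
  rw [← homEquiv_app, sect, Equiv.apply_symm_apply]
  rfl

end K389.VSec
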